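import Groth.Agent.Variety.K425.HomPoly
import Groth.Agent.Variety.K426.HomFactor
import Groth.Agent.Lefpen.H716.CIGeom
import Groth.Agent.Curves.K330.FormSec
import Groth.Agent.Coherent.K51.CIReg

/-!
# Pencils of quadrics through a nondegenerate variety

* `irreducible_of`: a quadric in a prime ideal without linear forms is irreducible;
* `isReg_pair`: two independent quadrics, the first irreducible, are a regular sequence;
* `comap_eq_bot_iff`: a form vanishes on `ι : X ⟶ P^n`, `X` integral, iff it is in the prime of `ι` of the generic point;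
* `isReg_of_nondeg`: two independent quadrics through a nondegenerate integral scheme are a regular sequence.
-/

set_option autoImplicit false
universe u

open CategoryTheory AlgebraicGeometry TopologicalSpace MvPolynomial

namespace K33.Quadrics

open Groth.Agent LefPen Groth.Agent.Coherent.K51 Groth.Agent.Lefpen.H705.HypIdeal

variable {k : Type u} [Field k] {n : ℕ}

theorem irreducible_of (P : Ideal (MvPolynomial (Fin (n + 1)) k)) [hP : P.IsPrime]
    (hlin : ∀ l : MvPolynomial (Fin (n + 1)) k, l.IsHomogeneous 1 → l ∈ P → l = 0)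
    {Q : MvPolynomial (Fin (n + 1)) k} (hQ : Q.IsHomogeneous 2) (hQ0 : Q ≠ 0) (hQP : Q ∈ P) : Irreducible Q := by
  obtain ⟨d, f, hf, hfi, hfP, u, rfl⟩ := K425.HomPoly.exists_irreducible_dvd P hQ hQ0 hQP
  have hf0 : f ≠ 0 := hfi.ne_zero
  have hu0 : u ≠ 0 := right_ne_zero_of_mul hQ0
  have hu : u.IsHomogeneous u.totalDegree :=
    K425.HomPoly.isHomogeneous_of_mul (g := u) (h := f) (n := 2) (by rwa [mul_comm]) (by rwa [mul_comm])
  have hd : f.totalDegree = d := hf.totalDegree hf0
  have h2 : f.totalDegree + u.totalDegree = 2 := by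
    rw [← totalDegree_mul_of_isDomain hf0 hu0]
    exact hQ.totalDegree hQ0
  have hd1 : d ≠ 1 := fun h => hf0 (hlin f (h ▸ hf) hfP)
  have hd0 : d ≠ 0 := fun h => hfi.not_isUnit (K426.HomFactor.isUnit_of_isHomogeneous_zero (h ▸ hf) hf0)
  have hu' : u.totalDegree = 0 := by omega
  have hunit := K426.HomFactor.isUnit_of_isHomogeneous_zero (hu' ▸ hu) hu0
  exact (irreducible_mul_isUnit hunit).mpr hfi

theorem not_dvd (G : Fin 2 → Form n k 2) (hli : LinearIndependent k G) : ¬ (G 0).1 ∣ (G 1).1 := by
  rintro ⟨u, hu⟩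
  have h0 : (G 0).1 ≠ 0 := fun h => hli.ne_zero 0 (Subtype.ext h)
  have h1 : (G 1).1 ≠ 0 := fun h => hli.ne_zero 1 (Subtype.ext h)
  have hu0 : u ≠ 0 := by
    rintro rfl
    exact h1 (by rw [hu, mul_zero])
  have d0 : (G 0).1.totalDegree = 2 := IsHomogeneous.totalDegree (show (G 0).1.IsHomogeneous 2 from (G 0).2) h0
  have d1 : (G 1).1.totalDegree = 2 := IsHomogeneous.totalDegree (show (G 1).1.IsHomogeneous 2 from (G 1).2) h1
  rw [hu, totalDegree_mul_of_isDomain h0 hu0, d0] at d1
  have hc : u = C (coeff 0 u) := totalDegree_eq_zero_iff_eq_C.mp (by omega)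
  have h2 : G 1 = coeff 0 u • G 0 := by
    apply Subtype.ext
    change (G 1).1 = coeff 0 u • (G 0).1
    rw [hu, smul_eq_C_mul, mul_comm, ← hc]
  have h3 := LinearIndependent.pair_iff.mp (show LinearIndependent k ![G 0, G 1] by
    convert hli using 1
    ext i
    fin_cases i <;> rfl) (coeff 0 u) (-1) (by rw [h2]; simp)
  exact absurd h3.2 (by norm_num)

theorem isReg_pair (G : Fin 2 → Form n k 2) (hli : LinearIndependent k G) (hirr : Irreducible (G 0).1) :
    CIReg.IsReg (a := fun _ => 2) G := by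
  intro c f hf
  fin_cases c
  · have h : ((fun j => (G j).1) '' {j : Fin 2 | j < 0}) = ∅ := by
      ext x
      simp
    change (G 0).1 * f ∈ Ideal.span ((fun j => (G j).1) '' {j : Fin 2 | j < 0}) at hf
    change f ∈ Ideal.span ((fun j => (G j).1) '' {j : Fin 2 | j < 0})
    rw [h, Ideal.span_empty, Ideal.mem_bot] at hf ⊢
    exact (mul_eq_zero.mp hf).resolve_left hirr.ne_zero
  · have h : ((fun j => (G j).1) '' {j : Fin 2 | j < 1}) = {(G 0).1} := by
      ext x
      simp only [Set.mem_image, Set.mem_ofPred_eq, Set.mem_singleton_iff]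
      constructor
      · rintro ⟨j, hj, rfl⟩
        have : j = 0 := by omega
        rw [this]
      · rintro rfl
        exact ⟨0, by decide, rfl⟩
    change (G 1).1 * f ∈ Ideal.span ((fun j => (G j).1) '' {j : Fin 2 | j < 1}) at hf
    change f ∈ Ideal.span ((fun j => (G j).1) '' {j : Fin 2 | j < 1})
    rw [h, Ideal.mem_span_singleton] at hf ⊢
    exact (hirr.prime.dvd_or_dvd hf).resolve_left (not_dvd G hli)

section Geo

variable {X : Scheme.{u}} (ι : X ⟶ CohB1.ProjSpace n k) [IsIntegral X]

theorem comap_eq_bot_iff {d : ℕ} (G : Form n k d) :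
    (hypIdeal G).comap ι = ⊥ ↔ G.1 ∈ (ι (genericPoint X)).asHomogeneousIdeal.toIdeal := by
  rw [← Scheme.IdealSheafData.support_eq_top_iff]
  have h1 : genericPoint X ∈ ((hypIdeal G).comap ι).support ↔
      G.1 ∈ (ι (genericPoint X)).asHomogeneousIdeal.toIdeal := by
    rw [Scheme.IdealSheafData.support_comap]
    change ι (genericPoint X) ∈ (hypIdeal G).support ↔ _
    rw [Lefpen.H716.CIGeom.mem_support_hypIdeal_iff]
    exact (not_congr (Proj.mem_basicOpen (CohB1.polyGrading n k) G.1 (ι (genericPoint X)))).trans not_not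
  rw [← h1]
  constructor
  · intro h
    rw [h]
    trivial
  · intro h
    apply SetLike.coe_injective
    apply Set.eq_univ_of_univ_subset
    have h2 : closure {genericPoint X} ⊆ (((hypIdeal G).comap ι).support : Set X) :=
      (((hypIdeal G).comap ι).support.isClosed.closure_subset_iff).mpr (Set.singleton_subset_iff.mpr h)
    rwa [show closure {genericPoint X} = Set.univ from genericPoint_closure _] at h2

theorem isReg_of_nondeg (hnd : ∀ G : Form n k 1, G ≠ 0 → (hypIdeal G).comap ι ≠ ⊥) (G : Fin 2 → Form n k 2)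
    (hli : LinearIndependent k G) (hG : ∀ j, K330.FormSec.sec' ι (G j) = 0) : CIReg.IsReg (a := fun _ => 2) G := by
  refine isReg_pair G hli ?_
  let P : Ideal (MvPolynomial (Fin (n + 1)) k) := (ι (genericPoint X)).asHomogeneousIdeal.toIdeal
  have hP : P.IsPrime := (ι (genericPoint X)).isPrime
  refine irreducible_of P (fun l hl hlP => ?_) (G 0).2 (fun h => hli.ne_zero 0 (Subtype.ext h)) ?_
  · by_contra h0
    exact hnd ⟨l, hl⟩ (fun h => h0 (congrArg Subtype.val h)) ((comap_eq_bot_iff ι (⟨l, hl⟩ : Form n k 1)).mpr hlP)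
  · exact (comap_eq_bot_iff ι (G 0)).mp (K330.FormSec.comap_eq_bot ι (G 0) (hG 0))

end Geo

end K33.Quadrics
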