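import Groth.Agent.Surf.K464.Curves
import Groth.Agent.Coherent.K51.CIGood
import Groth.Agent.VarietyB.EulerBinom
import Groth.Agent.LefPen.K568.GenericForms

/-!
# Euler characteristics of twists on complete intersections

`E f t = χ(Y, f^* O(t))` for `f : Y ⟶ P^N_k`.
* `E_iso`: invariance under isomorphisms; `E_step`: `E (J.subschemeι ≫ f) t = E f t - E f (t - b)` if the ideal module of
  `J` is `f^* O(-b)`;
* `E_proj`: the values on projective space; `E_ci_two`: for a regular pair of forms of degrees `a₀, a₁`;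
* `E_ker`: `E i = E (ci).subschemeι` for a closed immersion `i` with kernel the ideal of the complete intersection.
-/

set_option autoImplicit false
universe u

open CategoryTheory CategoryTheory.Limits AlgebraicGeometry Opposite TopologicalSpace

namespace K33.CIEuler

open Groth.Agent LefPen Groth.Agent.Coherent.K51 Groth.Agent.Lefpen.H718.Chart

variable {N : ℕ} {k : Type u} [Field k] {X Y : Scheme.{u}}

/-- The `k`-structure of a scheme over projective space. -/
@[reducible] noncomputable def ovr (f : Y ⟶ CohB1.ProjSpace N k) : Y.Over (Spec (CommRingCat.of k)) :=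
  ⟨f ≫ CohB1.ProjSpace.toSpec N k⟩

/-- `χ(Y, f^* O(t))`. -/
noncomputable def E (f : Y ⟶ CohB1.ProjSpace N k) (t : ℤ) : ℤ :=
  @Curv2.euler k _ Y (ovr f) ((Scheme.Modules.pullback f).obj (Twist.twistProjSpace N k t))

theorem E_eq [Y.Over (Spec (CommRingCat.of k))] (f : Y ⟶ CohB1.ProjSpace N k)
    (hf : f ≫ CohB1.ProjSpace.toSpec N k = Y ↘ (Spec (CommRingCat.of k))) (t : ℤ) :
    E f t = Curv2.euler k Y ((Scheme.Modules.pullback f).obj (Twist.twistProjSpace N k t)) := by
  have h : ovr f = ‹Y.Over (Spec (CommRingCat.of k))› := by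
    cases ‹Y.Over (Spec (CommRingCat.of k))›
    exact congrArg OverClass.ofHom hf
  rw [E, h]

theorem E_iso (e : X ≅ Y) (f : Y ⟶ CohB1.ProjSpace N k) (t : ℤ) : E (e.hom ≫ f) t = E f t := by
  letI := ovr f
  letI := ovr (e.hom ≫ f)
  have he : e.hom ≫ (Y ↘ Spec (CommRingCat.of k)) = X ↘ Spec (CommRingCat.of k) := (Category.assoc _ _ _).symm
  exact (CurvesC.DegIso.euler_congr k ((Scheme.Modules.pullbackComp e.hom f).symm.app _)).trans
    (CurvesC.DegIso.euler_pullback_iso k e he _)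

theorem isInv (f : Y ⟶ CohB1.ProjSpace N k) (t : ℤ) :
    PicF.IsInvertible ((Scheme.Modules.pullback f).obj (Twist.twistProjSpace N k t)) :=
  Fdesc.LocGen.isInvertible_pullback f (Ega3B.ProjFrame.isInvertible_twistProjSpace N k t)

theorem E_step (f : Y ⟶ CohB1.ProjSpace N k) (hf : IsProper (f ≫ CohB1.ProjSpace.toSpec N k)) (J : Y.IdealSheafData)
    {b : ℕ} (hJ : Nonempty (ClSub.idealMod J ≅ (Scheme.Modules.pullback f).obj (Twist.twistProjSpace N k (-(b : ℤ)))))
    (t : ℤ) : E (J.subschemeι ≫ f) t = E f t - E f (t - b) := by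
  letI := ovr f
  letI := ovr (J.subschemeι ≫ f)
  have hp : IsProper (Y ↘ Spec (CommRingCat.of k)) := hf
  obtain ⟨e⟩ := CIGood.nonempty_tensor_ideal f J hJ t
  have h1 := K464.Base.euler_quotMod_tensor k Y J (isInv f t)
  have h2 := K464.Curves.euler_quotMod_tensor_sub k Y J (isInv f t)
  have h3 : @Curv2.euler k _ J.subscheme (K464.Curves.overC k Y J)
      ((Scheme.Modules.pullback J.subschemeι).obj ((Scheme.Modules.pullback f).obj (Twist.twistProjSpace N k t))) =
      E (J.subschemeι ≫ f) t :=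
    ((CurvesC.DegIso.euler_congr k ((Scheme.Modules.pullbackComp J.subschemeι f).app _)).trans
      (E_eq (J.subschemeι ≫ f) rfl t).symm)
  rw [← h3, ← h2, h1]
  congr 1
  exact CurvesC.DegIso.euler_congr k (Ega2.Tens.swap _ _ ≪≫ e)

/-- `χ(J ⊗ y^* O(t)) = E y t - E (J.subschemeι ≫ y) t`. -/
theorem E_ideal (y : Y ⟶ CohB1.ProjSpace N k) (hy : IsProper (y ≫ CohB1.ProjSpace.toSpec N k)) (J : Y.IdealSheafData)
    (t : ℤ) : @Curv2.euler k _ Y (ovr y) (CohB1.tensorMod (ClSub.idealMod J)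
      ((Scheme.Modules.pullback y).obj (Twist.twistProjSpace N k t))) = E y t - E (J.subschemeι ≫ y) t := by
  letI := ovr y
  letI := ovr (J.subschemeι ≫ y)
  have hp : IsProper (Y ↘ Spec (CommRingCat.of k)) := hy
  have h1 := K464.Base.euler_quotMod_tensor k Y J (isInv y t)
  have h2 := K464.Curves.euler_quotMod_tensor_sub k Y J (isInv y t)
  have h3 : @Curv2.euler k _ J.subscheme (K464.Curves.overC k Y J)
      ((Scheme.Modules.pullback J.subschemeι).obj ((Scheme.Modules.pullback y).obj (Twist.twistProjSpace N k t))) =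
      E (J.subschemeι ≫ y) t :=
    ((CurvesC.DegIso.euler_congr k ((Scheme.Modules.pullbackComp J.subschemeι y).app _)).trans
      (E_eq (J.subschemeι ≫ y) rfl t).symm)
  have h4 : E y t = Curv2.euler k Y ((Scheme.Modules.pullback y).obj (Twist.twistProjSpace N k t)) := rfl
  rw [← h3, ← h2, h1, h4]
  ring

/-- A closed immersion and its image. -/
theorem E_image (j : X ⟶ Y) [IsClosedImmersion j] (y : Y ⟶ CohB1.ProjSpace N k) (t : ℤ) :
    E (j ≫ y) t = E (j.ker.subschemeι ≫ y) t := by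
  have h1 : j = (asIso j.toImage).hom ≫ j.imageι := (Scheme.Hom.toImage_imageι j).symm
  conv_lhs => rw [h1, Category.assoc]
  exact E_iso (asIso j.toImage) (j.imageι ≫ y) t

open Groth.Agent.VarietyB.EulerBinom in
theorem E_proj (t : ℤ) : E (𝟙 (CohB1.ProjSpace N k)) t = c N t := by
  rw [← euler_twist k N t]
  rw [E_eq (𝟙 (CohB1.ProjSpace N k)) (Category.id_comp _) t]
  exact CurvesC.DegIso.euler_congr k ((Scheme.Modules.pullbackId _).app _)

/-- The case of two forms. -/
theorem E_ci_two {a : Fin 2 → ℕ} (G : ∀ j : Fin 2, Form N k (a j)) (hG : CIReg.IsReg G) (t : ℤ) :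
    E (ciIdeal G).subschemeι t =
      (VarietyB.EulerBinom.c N t - VarietyB.EulerBinom.c N (t - a 0)) -
        (VarietyB.EulerBinom.c N (t - a 1) - VarietyB.EulerBinom.c N (t - a 1 - a 0)) := by
  have key : ∀ {r : ℕ} {a : Fin (r + 1) → ℕ} (G : ∀ j : Fin (r + 1), Form N k (a j)) (_ : CIReg.IsReg G) (t : ℤ),
      E (ciIdeal G).subschemeι t = E (ciIdeal (fun j : Fin r => G j.castSucc)).subschemeι t -
        E (ciIdeal (fun j : Fin r => G j.castSucc)).subschemeι (t - a (Fin.last r)) := by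
    intro r a G hG t
    have hp : IsProper ((ciIdeal (fun j : Fin r => G j.castSucc)).subschemeι ≫ CohB1.ProjSpace.toSpec N k) := by
      have : IsProper (CohB1.ProjSpace.toSpec N k) := inferInstance
      infer_instance
    have h1 := E_step (ciIdeal (fun j : Fin r => G j.castSucc)).subschemeι hp
      ((hypIdeal (G (Fin.last r))).comap (yι (fun j : Fin r => G j.castSucc)))
      (CIStep.nonempty_iso (fun j : Fin r => G j.castSucc) (G (Fin.last r)) hG.fn_mem_nonZeroDivisors) t
    obtain ⟨e, he⟩ := CIReg.exists_ciIso G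
    rw [← he, E_iso]
    exact h1
  have h0 : ∀ (a : Fin 0 → ℕ) (G : ∀ j : Fin 0, Form N k (a j)) (t : ℤ),
      E (ciIdeal G).subschemeι t = VarietyB.EulerBinom.c N t := by
    intro a G t
    have h1 : ciIdeal G = ⊥ := by
      rw [ciIdeal, iSup_of_empty]
    have h2 : IsIso (ciIdeal G).subschemeι := by
      rw [h1]
      infer_instance
    have h3 := E_iso (asIso (ciIdeal G).subschemeι) (𝟙 (CohB1.ProjSpace N k)) t
    rw [Category.comp_id, E_proj] at h3
    exact h3
  rw [key G hG, key _ hG.castSucc, key _ hG.castSucc, h0, h0, h0, h0]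
  rfl

theorem E_ker (i : X ⟶ CohB1.ProjSpace N k) [IsClosedImmersion i] {I : (CohB1.ProjSpace N k).IdealSheafData}
    (h : i.ker = I) (t : ℤ) : E i t = E I.subschemeι t := by
  subst h
  have h1 : i = (asIso i.toImage).hom ≫ i.imageι := (Scheme.Hom.toImage_imageι i).symm
  conv_lhs => rw [h1]
  exact E_iso (asIso i.toImage) i.imageι t

section values

open Groth.Agent.VarietyB.EulerBinom

theorem N_eq (n d : ℕ) : VarietyB.EulerBinom.N n d = (n + d).choose n := by
  rw [← finrank_homogeneous ℚ n d, Nat.choose_symm_add]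
  exact K568.GenericForms.finrank_form (k := ℚ) n d

theorem c_nat (n d : ℕ) : c n (d : ℤ) = ((n + d).choose n : ℕ) := by
  rw [c, if_pos (by omega), N_eq, Int.toNat_natCast]

theorem c_zero_of (n : ℕ) (t : ℤ) (h1 : t < 0) (h2 : -((n : ℤ) + 1) < t) : c n t = 0 := by
  rw [c, if_neg (by omega), if_neg (by omega)]

theorem c_neg (n d : ℕ) : c n (-((n : ℤ) + 1) - d) = (-1) ^ n * ((n + d).choose n : ℕ) := by
  rw [c, if_neg (by omega), if_pos (by omega), N_eq]
  congr 4
  omega

theorem choose_id (n : ℕ) : (((n + 4).choose 4 : ℕ) : ℤ) - ((n + 2).choose 4 : ℕ) -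
    (((n + 2).choose 4 : ℕ) - (n.choose 4 : ℕ)) = 2 * (n : ℤ) ^ 2 + 2 * n + 1 := by
  have h2 : (2 : ℤ) * (n.choose 2 : ℕ) = n * (n - 1) := by
    have h := Nat.cast_choose_two ℚ n
    have h' : (2 : ℚ) * (n.choose 2 : ℕ) = n * (n - 1) := by rw [h]; ring
    exact_mod_cast h'
  have e : ∀ m j : ℕ, (((m + 1).choose (j + 1) : ℕ) : ℤ) = (m.choose j : ℕ) + (m.choose (j + 1) : ℕ) := fun m j => by
    rw [Nat.choose_succ_succ']; push_cast; rfl
  have e1 : ∀ m : ℕ, ((m.choose 1 : ℕ) : ℤ) = m := fun m => by rw [Nat.choose_one_right]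
  rw [e (n + 3) 3, e (n + 2) 3, e (n + 2) 2, e (n + 1) 3, e (n + 1) 2, e n 3, e n 2, e (n + 1) 1, e n 1, e1, e1]
  push_cast
  linarith [h2]

/-- `χ(O_Y(t)) = 2t² + 2t + 1` for a complete intersection of two quadrics in `P⁴`. -/
theorem E_quadrics (G : Fin 2 → Form 4 k 2) (hG : CIReg.IsReg (a := fun _ => 2) G) (n : ℕ) :
    E (ciIdeal (a := fun _ : Fin 2 => 2) G).subschemeι n = 2 * (n : ℤ) ^ 2 + 2 * n + 1 := by
  have h1 : ∀ m : ℕ, c 4 ((m : ℤ) - 2) = ((m + 2).choose 4 : ℕ) := fun m => by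
    rcases Nat.lt_or_ge m 2 with h | h
    · rw [c_zero_of _ _ (by omega) (by omega), Nat.choose_eq_zero_of_lt (by omega)]; rfl
    · obtain ⟨q, rfl⟩ := Nat.exists_eq_add_of_le h
      rw [show ((2 + q : ℕ) : ℤ) - 2 = (q : ℕ) by push_cast; ring, c_nat]
      congr 2; omega
  have h2 : ∀ m : ℕ, c 4 ((m : ℤ) - 2 - 2) = (m.choose 4 : ℕ) := fun m => by
    rcases Nat.lt_or_ge m 4 with h | h
    · rw [c_zero_of _ _ (by omega) (by omega), Nat.choose_eq_zero_of_lt (by omega)]; rfl
    · obtain ⟨q, rfl⟩ := Nat.exists_eq_add_of_le h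
      rw [show ((4 + q : ℕ) : ℤ) - 2 - 2 = (q : ℕ) by push_cast; ring, c_nat]
  have h3 : c 4 (n : ℤ) = ((n + 4).choose 4 : ℕ) := by
    rw [c_nat, add_comm 4 n]
  rw [E_ci_two (a := fun _ => 2) G hG, ← choose_id n, h3]
  simp only [Nat.cast_ofNat]
  rw [h1, h2]

theorem E_quadrics_neg (G : Fin 2 → Form 4 k 2) (hG : CIReg.IsReg (a := fun _ => 2) G) :
    E (ciIdeal (a := fun _ : Fin 2 => 2) G).subschemeι (-1) = 1 := by
  rw [E_ci_two (a := fun _ => 2) G hG]
  have h := c_neg 4 0
  norm_num at h ⊢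
  rw [h, c_zero_of 4 (-1) (by norm_num) (by norm_num), c_zero_of 4 (-3) (by norm_num) (by norm_num)]
  norm_num

end values

end K33.CIEuler
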