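import Groth.Agent.Surf.K463.RRd
import Groth.Agent.Surf.K464.DegCurve
import Groth.Agent.Curves.K318.HypDiv
import Groth.Agent.VBCurve.K708.Coho
import Groth.Agent.JacVar.K533.CurveH1
import Groth.Agent.Sga7.H5.HypConn
import Groth.Agent.Sga7.H5.LinForm
import Groth.Agent.Sga7.H5.Curve
import Groth.Agent.AbVar.K506.TransAlg
import Groth.Agent.Lefpen.H21.PicTwist

/-!
# Hyperplane sections of surfaces and global sections

* `exists_section`: a smooth projective surface has a smooth connected hyperplane section;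
* `ic_section`: its class is `O(-1)`;
* `h0_step`: `h⁰(a) ≤ h⁰(a - D) + h⁰(O_D ⊗ a)`;
* `h0_curve`: `h⁰(O_C ⊗ L) = deg(L|_C)` for an integral curve with `χ(O_C) = 0`, `deg(L|_C) > 0`.
-/

set_option autoImplicit false
universe u

open CategoryTheory CategoryTheory.Limits AlgebraicGeometry Opposite TopologicalSpace

namespace K33.HypSec

open Groth.Agent LefPen Groth.Agent.Grpsch.PicGrp Groth.Agent.Lefpen.H21.PicTwist K463.HC K464.Base K464.Curves
open Groth.Agent.Sga7.H5

variable (k : Type u) [Field k]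

/-- A smooth connected hyperplane section of a smooth surface. -/
theorem exists_section (Hs : HypConn.Stmt.{u}) [IsAlgClosed k] {N : ℕ} {X : Scheme.{u}} [IsIntegral X]
    (i : X ⟶ CohB1.ProjSpace N k) [IsClosedImmersion i] [Smooth (i ≫ CohB1.ProjSpace.toSpec N k)]
    (hdim : topologicalKrullDim X = 2) :
    ∃ ℓ : Form N k 1, ℓ ≠ 0 ∧ IsIntegral ((hypIdeal ℓ).comap i).subscheme ∧
      topologicalKrullDim ((hypIdeal ℓ).comap i).subscheme = 1 := by
  have h2 : SmoothOfRelativeDimension (1 + 1) (i ≫ CohB1.ProjSpace.toSpec N k) :=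
    Picfga.CurveRelDim.smoothOfRelativeDimension_of_topologicalKrullDim_eq k X _ (1 + 1) hdim
  have hgi : GeometricallyIntegral (i ≫ CohB1.ProjSpace.toSpec N k) :=
    K506.TransAlg.geometricallyIntegral_of_isIntegral _
  obtain ⟨a, ha, hs⟩ := LinForm.exists_linForm i 1
  have key : secIdeal i {LinForm.linForm a} = (hypIdeal (LinForm.linForm a)).comap i := by
    rw [secIdeal]
    congr 1
    simp
  have hconn : ConnectedSpace (Sec i {LinForm.linForm a}) := by
    have h1 : IsPullback (𝟙 X) (i ≫ CohB1.ProjSpace.toSpec N k) (i ≫ CohB1.ProjSpace.toSpec N k)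
        (Spec.map (CommRingCat.ofHom (RingHom.id k))) := by
      have h0 : Spec.map (CommRingCat.ofHom (RingHom.id k)) = 𝟙 (Spec (CommRingCat.of k)) := by
        rw [CommRingCat.ofHom_id]
        exact Spec.map_id _
      rw [h0]
      exact IsPullback.of_id_fst
    have h3 : IsPullback (secι i {LinForm.linForm a}) (𝟙 (Sec i {LinForm.linForm a})) (𝟙 X ≫ 𝟙 X)
        (secι i {LinForm.linForm a}) := by
      rw [Category.comp_id]
      exact IsPullback.of_id_snd
    have hconnX : ConnectedSpace X := IrreducibleSpace.connectedSpace _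
    exact HypConn.connectedSpace_step i Hs 1 le_rfl (LinForm.linForm a) ha (RingHom.id k) h1 (𝟙 X) h3
  have hsm : Smooth (secToSpec i {LinForm.linForm a}) := SmoothOfRelativeDimension.smooth 1 _
  have hint : IsIntegral (Sec i {LinForm.linForm a}) := Curve.isIntegral_of_smooth (secToSpec i {LinForm.linForm a})
  have hd : topologicalKrullDim (Sec i {LinForm.linForm a}) = 1 := by
    have := Sga4h.CurveHat410.topologicalKrullDim_eq (secToSpec i {LinForm.linForm a}) 1
    simpa using this
  rw [Sec, key] at hint hd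
  exact ⟨LinForm.linForm a, fun h => ha (congrArg Subtype.val h), hint, hd⟩

/-- The class of a hyperplane section. -/
theorem ic_section {N : ℕ} {X : Scheme.{u}} [IsIntegral X] (i : X ⟶ CohB1.ProjSpace N k) (ℓ : Form N k 1) (hℓ : ℓ ≠ 0)
    (h : (hypIdeal ℓ).comap i ≠ ⊥) :
    ∃ hE : BlowUp.IsEffCartierIdeal ((hypIdeal ℓ).comap i), ic _ hE = (hyp i)⁻¹ := by
  have h1 := K318.HypDiv.isEff_hypIdeal ℓ hℓ
  have hη : i (genericPoint X) ∉ (hypIdeal ℓ).support := by
    intro hm
    apply h
    rw [← Scheme.IdealSheafData.support_eq_top_iff]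
    apply SetLike.coe_injective
    apply Set.eq_univ_of_univ_subset
    have h2 : genericPoint X ∈ ((hypIdeal ℓ).comap i).support := by
      rw [Scheme.IdealSheafData.support_comap]
      exact hm
    have h3 : closure {genericPoint X} ⊆ (((hypIdeal ℓ).comap i).support : Set X) :=
      (((hypIdeal ℓ).comap i).support.isClosed.closure_subset_iff).mpr (Set.singleton_subset_iff.mpr h2)
    rwa [show closure {genericPoint X} = Set.univ from genericPoint_closure _] at h3
  have hE := K464.DegCurve.isEff_comap i h1 hη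
  refine ⟨hE, ?_⟩
  rw [← K464.DegCurve.pull_ic i h1 hE, hyp, ← map_inv]
  congr 1
  have h4 := mk_eq_ic_inv (K318.HypDiv.isInverseOf ℓ hℓ)
    (Groth.Agent.Ega3B.ProjTwist.isInvertible_twistProjSpace N k ((1 : ℕ) : ℤ)) h1
  rw [eq_comm, inv_eq_iff_eq_inv]
  exact h4

variable (X : Scheme.{u}) [X.Over (Spec (CommRingCat.of k))] [IsProper (X ↘ (Spec (CommRingCat.of k)))]

theorem h0_step {D : X.IdealSheafData} (hD : BlowUp.IsEffCartierIdeal D) {L : X.Modules} (hL : PicF.IsInvertible L) :
    hc k X 0 (mk L hL) ≤ hc k X 0 (ic D hD * mk L hL) +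
      Module.finrank k (Coh.HH X (CohB1.tensorMod (ClSub.quotMod D) L) 0) := by
  have hS := Fga.TwistCoh.shortExact_tensorBi hL _ (VarietyB.RestrSeq.idealSeq_shortExact D)
  have c1 : Coh.IsCoh (CohB1.tensorMod L (ClSub.idealMod D)) :=
    VarietyA.EulerFinite.isCoh_of_iso (Ega2.Tens.swap _ _) (isCoh_tensorMod X (isCoh_idealMod k X D) hL)
  have c2 : Coh.IsCoh (CohB1.tensorMod L (Coh.structureModule X)) :=
    VarietyA.EulerFinite.isCoh_of_iso (Ega2.Tens.swap _ _) (isCoh_tensorMod X (isCoh_unit k X) hL)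
  have c3 : Coh.IsCoh (CohB1.tensorMod L (ClSub.quotMod D)) :=
    VarietyA.EulerFinite.isCoh_of_iso (Ega2.Tens.swap _ _) (isCoh_tensorMod X (isCoh_quotMod X D) hL)
  have h := K708.Coho.finrank_HH_le_add k hS c1 c2 c3 0
  have e2 : Module.finrank k (Coh.HH X (CohB1.tensorMod L (Coh.structureModule X)) 0) = hc k X 0 (mk L hL) :=
    CurvesC.DegIso.finrank_congr k (Ega2.Tens.runit L) 0
  have e1 : Module.finrank k (Coh.HH X (CohB1.tensorMod L (ClSub.idealMod D)) 0) = hc k X 0 (ic D hD * mk L hL) := by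
    rw [ic, mk_mul_mk, hc_mk]
    exact CurvesC.DegIso.finrank_congr k (Ega2.Tens.swap _ _) 0
  have e3 : Module.finrank k (Coh.HH X (CohB1.tensorMod L (ClSub.quotMod D)) 0) =
      Module.finrank k (Coh.HH X (CohB1.tensorMod (ClSub.quotMod D) L) 0) :=
    CurvesC.DegIso.finrank_congr k (Ega2.Tens.swap _ _) 0
  rw [← e1, ← e2, ← e3]
  exact h

theorem h0_curve [IsAlgClosed k] {C : X.IdealSheafData} (hC : IsIntegral C.subscheme)
    (hC1 : topologicalKrullDim C.subscheme = 1)
    (hχ : Curv2.euler k X (ClSub.quotMod C) = 0) {L : X.Modules} (hL : PicF.IsInvertible L)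
    (hd : 0 < Curv2.euler k X (CohB1.tensorMod (ClSub.quotMod C) L)) :
    (Module.finrank k (Coh.HH X (CohB1.tensorMod (ClSub.quotMod C) L) 0) : ℤ) =
      Curv2.euler k X (CohB1.tensorMod (ClSub.quotMod C) L) := by
  letI := overC k X C
  have hp := isProper_sub k X C
  have hL' := Fdesc.LocGen.isInvertible_pullback C.subschemeι hL
  have h0 := VarietyA.CurveFin.finrank_h0_structure k C.subscheme
  have a1 : Curv2.euler k C.subscheme (Coh.structureModule C.subscheme) = 0 := by
    rw [← euler_quotMod_sub k X C]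
    exact hχ
  have a2 : Curv2.euler k X (CohB1.tensorMod (ClSub.quotMod C) L) =
      Curv2.euler k C.subscheme ((Scheme.Modules.pullback C.subschemeι).obj L) := euler_quotMod_tensor_sub k X C hL
  have a3 : Curv2.deg k C.subscheme ((Scheme.Modules.pullback C.subschemeι).obj L) 1 =
      Curv2.euler k X (CohB1.tensorMod (ClSub.quotMod C) L) := by
    rw [Curv2.deg, a1, a2]
    ring
  have a4 := K708.Coho.euler_eq k hC1.le (Coh.structureModule C.subscheme)
  have hg : (Curv2.genus k C.subscheme : ℤ) = 1 := by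
    rw [a1, h0] at a4
    rw [Curv2.genus]
    push_cast at a4
    linarith
  have a5 := K533.CurveH1.h0_eq k hC1 h0 hL' (by rw [a3, hg]; linarith)
  rw [a3, hg] at a5
  obtain ⟨e⟩ := nonempty_iso_push X C hL
  have a6 : Module.finrank k (Coh.HH X (CohB1.tensorMod (ClSub.quotMod C) L) 0) =
      Module.finrank k (Coh.HH C.subscheme ((Scheme.Modules.pullback C.subschemeι).obj L) 0) :=
    (CurvesC.DegIso.finrank_congr k e 0).trans (CurvesC.DegIso.finrank_push k C.subschemeι rfl _ 0)
  rw [a6, a5]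
  ring

end K33.HypSec
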