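import Groth.Agent.Surf.K33.CICanon
import Groth.Agent.Surf.K33.Quadrics
import Groth.Agent.Surf.K33.HypSec
import Groth.Agent.ShStab.K847.HilbBasic
import Groth.Agent.Fga.PosZero
import Groth.Agent.S0844
import Groth.Agent.Ega3B.SerreTwist

/-!
# Degree four del Pezzo surfaces in `P⁴`

* `chi_pow`, `h0_two_le`: `χ(O_X(t)) = 2t² + 2t + χ(O_X)`, `h⁰(O_X(2)) ≤ 13`;
* `exists_quadrics`: two independent quadrics through `X`;
* `eq_bot_of_const`: an ideal sheaf `J` on `Y` with `χ(J(t))` constant and `H⁰(Y, O_Y(-1)) = 0` is zero;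
* `main`: `X` is the complete intersection of two quadrics.
-/

set_option autoImplicit false
universe u

open CategoryTheory CategoryTheory.Limits AlgebraicGeometry Opposite TopologicalSpace

namespace K33.DP4

open Groth.Agent LefPen Groth.Agent.Grpsch.PicGrp Groth.Agent.Lefpen.H21.PicTwist K463.HC K463.RRd K464.Base
open K464.Curves K33.CIEuler K33.HypSec Groth.Agent.Coherent.K51

section surface

variable (k : Type u) [Field k] [IsAlgClosed k] (X : Scheme.{u}) [X.Over (Spec (CommRingCat.of k))] {N : ℕ}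
  [IsIntegral X] [IsProper (X ↘ (Spec (CommRingCat.of k)))] [Smooth (X ↘ (Spec (CommRingCat.of k)))]
  (hdim : topologicalKrullDim X = 2) (i : X ⟶ CohB1.ProjSpace N k)
  {W : X.Modules} (hW : ExtPow.IsExtPow 2 (Omega.sheaf (X ↘ (Spec (CommRingCat.of k)))) W)
  (hWi : PicF.IsInvertible W) (hw : mk W hWi = (hyp i)⁻¹) (h4 : dot k X (hyp i) (hyp i) = 4)

include hdim hW hw h4

omit [IsAlgClosed k] in
theorem chi_pow (t : ℤ) : chi k X (hyp i ^ t) = 2 * t ^ 2 + 2 * t + chi k X 1 := by
  have h := rr k hdim hW hWi (hyp i ^ t)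
  rw [hw, dot_inv_right k X hdim.le, dot_zpow_left k X hdim.le, dot_zpow_left k X hdim.le,
    dot_zpow_right k X hdim.le, h4] at h
  linarith

theorem h0_two_le (Hs : Groth.Agent.Sga7.H5.HypConn.Stmt.{u}) [IsClosedImmersion i]
    (hi : i ≫ CohB1.ProjSpace.toSpec N k = X ↘ (Spec (CommRingCat.of k)))
    (hnd : ∀ G : Form N k 1, G ≠ 0 → (hypIdeal G).comap i ≠ ⊥) : hc k X 0 (hyp i ^ (2 : ℤ)) ≤ 13 := by
  have hsm : Smooth (i ≫ CohB1.ProjSpace.toSpec N k) := by rw [hi]; infer_instance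
  obtain ⟨ℓ, hℓ, hC, hC1⟩ := exists_section k Hs i hdim
  obtain ⟨hE, hic⟩ := ic_section k i ℓ hℓ (hnd ℓ hℓ)
  have hχ : Curv2.euler k X (ClSub.quotMod ((hypIdeal ℓ).comap i)) = 0 := by
    rw [euler_quotMod_eq k X hE, hic, ← zpow_neg_one, chi_pow k X hdim i hW hWi hw h4]
    norm_num
  have step : ∀ t : ℤ, 0 < t → (hc k X 0 (hyp i ^ t) : ℤ) ≤ hc k X 0 (hyp i ^ (t - 1)) + 4 * t := by
    intro t ht
    have hL := isInvertible_pullback_twist i t
    have e1 : Curv2.euler k X (CohB1.tensorMod (ClSub.quotMod ((hypIdeal ℓ).comap i))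
        ((Scheme.Modules.pullback i).obj (Twist.twistProjSpace N k t))) = 4 * t := by
      rw [euler_quotMod_tensor_eq k X hE hL, mk_pullback_twist, hic, ← zpow_neg_one, ← zpow_add,
        chi_pow k X hdim i hW hWi hw h4, chi_pow k X hdim i hW hWi hw h4]
      ring
    have e2 := h0_curve k X hC hC1 hχ hL (by rw [e1]; linarith)
    have e3 := h0_step k X hE hL
    rw [mk_pullback_twist, hic, ← zpow_neg_one, ← zpow_add, show -1 + t = t - 1 by ring] at e3
    rw [e1] at e2
    rw [← e2]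
    exact_mod_cast e3
  have s1 := step 1 one_pos
  have s2 := step 2 two_pos
  rw [show (1 : ℤ) - 1 = 0 by norm_num, zpow_zero, hc_zero_one k] at s1
  rw [show (2 : ℤ) - 1 = 1 by norm_num] at s2
  push_cast at s1
  omega

end surface

section quadrics

variable {k : Type u} [Field k]

theorem isInvertible_of_iso {X : Scheme.{u}} {L L' : X.Modules} (e : L ≅ L') (h : PicF.IsInvertible L) :
    PicF.IsInvertible L' := fun x => by
  obtain ⟨V, hxV, ⟨f⟩⟩ := h x
  exact ⟨V, hxV, ⟨(Scheme.Modules.restrictFunctor V.ι).mapIso e.symm ≪≫ f⟩⟩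

theorem exists_pair {V W : Type*} [AddCommGroup V] [Module k V] [AddCommGroup W] [Module k W] [Module.Finite k W]
    (φ : V →ₗ[k] W) (h1 : Module.finrank k W ≤ 13) (h2 : Module.finrank k V = 15) :
    ∃ f : Fin 2 → V, LinearIndependent k f ∧ ∀ j, φ (f j) = 0 := by
  have hfin2 : Module.Finite k V := Module.finite_of_finrank_pos (by rw [h2]; norm_num)
  have h3 := φ.finrank_range_add_finrank_ker
  have h4 := Submodule.finrank_le (LinearMap.range φ)
  have h5 : 2 ≤ Module.finrank k (LinearMap.ker φ) := by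
    rw [h2] at h3
    omega
  obtain ⟨f, hf⟩ := exists_linearIndependent_of_le_finrank h5
  exact ⟨fun j => (f j).1, hf.map' (LinearMap.ker φ).subtype (Submodule.ker_subtype _), fun j => (f j).2⟩

theorem sec_eq_zero {X : Scheme.{u}} [X.Over (Spec (CommRingCat.of k))] {N d : ℕ} (r : X ⟶ CohB1.ProjSpace N k)
    (hr : r ≫ CohB1.ProjSpace.toSpec N k = X ↘ (Spec (CommRingCat.of k))) (G : Form N k d)
    (h : K330.FormSec.formSec X r hr G = 0) : K330.FormSec.sec' r G = 0 := by
  have h1 : (Groth.Agent.CurvesB.HZero.equivAdd _).symm (K330.FormSec.sec' r G) = 0 := h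
  rw [← AddEquiv.apply_symm_apply (Groth.Agent.CurvesB.HZero.equivAdd _) (K330.FormSec.sec' r G), h1, map_zero]

theorem exists_quadrics {X : Scheme.{u}} [X.Over (Spec (CommRingCat.of k))]
    [IsProper (X ↘ (Spec (CommRingCat.of k)))] (i : X ⟶ CohB1.ProjSpace 4 k)
    (hi : i ≫ CohB1.ProjSpace.toSpec 4 k = X ↘ (Spec (CommRingCat.of k)))
    (h : hc k X 0 (hyp i ^ (2 : ℤ)) ≤ 13) :
    ∃ G : Fin 2 → Form 4 k 2, LinearIndependent k G ∧ ∀ j, K330.FormSec.sec' i (G j) = 0 := by
  have hfin : Module.Finite k (Coh.HH X ((Scheme.Modules.pullback i).obj (Twist.twistProjSpace 4 k ((2 : ℕ) : ℤ))) 0) :=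
    K463.HC.finite_HH k X (isInvertible_pullback_twist i ((2 : ℕ) : ℤ)) 0
  have h1 : Module.finrank k (Coh.HH X ((Scheme.Modules.pullback i).obj (Twist.twistProjSpace 4 k ((2 : ℕ) : ℤ))) 0) ≤
      13 := by
    have h2 := hc_mk k X 0 (isInvertible_pullback_twist i ((2 : ℕ) : ℤ))
    rw [← h2, mk_pullback_twist]
    exact h
  have h2 : Module.finrank k (Form 4 k 2) = 15 := by
    rw [K568.GenericForms.finrank_form]
    decide
  obtain ⟨f, hf1, hf2⟩ := exists_pair (K330.FormSec.formSec (d := 2) X i hi) h1 h2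
  exact ⟨f, hf1, fun j => sec_eq_zero i hi (f j) (hf2 j)⟩

end quadrics

section ideal

variable (k : Type u) [Field k]

theorem eq_bot_of_isZero {Y : Scheme.{u}} (J : Y.IdealSheafData) (h : IsZero (ClSub.idealMod J)) : J = ⊥ := by
  refine Scheme.IdealSheafData.ext ?_
  funext U
  rw [Scheme.IdealSheafData.ideal_bot]
  refine le_antisymm (fun a ha => ?_) bot_le
  obtain ⟨x, rfl⟩ := PerfA.IdealModule.exists_val_eq J U ha
  have h0 : (𝟙 (ClSub.idealMod J) : ClSub.idealMod J ⟶ ClSub.idealMod J) = 0 := (IsZero.iff_id_eq_zero _).1 h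
  have h1 : (𝟙 (ClSub.idealMod J) : ClSub.idealMod J ⟶ ClSub.idealMod J).app U.1 x = (0 : ClSub.idealMod J ⟶ _).app U.1 x := by
    rw [h0]
  have h2 : x = 0 := by simpa using h1
  rw [h2, PerfA.IdealModule.val_zero]
  exact Submodule.zero_mem _

/-- An ideal with constant Hilbert polynomial on a scheme with an invertible module `L'` without sections vanishes. -/
theorem eq_bot_of_const {Y : Scheme.{u}} [Y.Over (Spec (CommRingCat.of k))]
    [IsProper (Y ↘ (Spec (CommRingCat.of k)))] {L L' : Y.Modules} (hL : CohB1.IsAmple L) (hL' : PicF.IsInvertible L')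
    (J : Y.IdealSheafData) (c : ℤ)
    (hc : ∀ m : ℕ, Curv2.euler k Y (CohB1.tensorMod (ClSub.idealMod J) (CohB1.tensorPow L m)) = c)
    (h0 : Subsingleton (Coh.HH Y L' 0)) : J = ⊥ := by
  apply eq_bot_of_isZero
  by_contra hz
  have hF := isCoh_idealMod k Y J
  obtain ⟨d, hd⟩ := K847.HilbBasic.exists_dim_support_eq k hz
  have hP : ShStab.IsHilbPoly k Y L (ClSub.idealMod J) (Polynomial.C (c : ℚ)) := fun m => by
    rw [Polynomial.eval_C, ← hc m]
    rfl
  have hd0 := K847.HilbBasic.natDegree_eq k hL hF hd hP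
  rw [Polynomial.natDegree_C] at hd0
  subst hd0
  have hS := Fga.TwistCoh.shortExact_tensorBi hL' _ (VarietyB.RestrSeq.idealSeq_shortExact J)
  have hM1 : Coh.IsCoh (CohB1.tensorMod (ClSub.idealMod J) L') := isCoh_tensorMod Y hF hL'
  have hM2 : Coh.IsCoh (CohB1.tensorMod L' (Coh.structureModule Y)) :=
    VarietyA.EulerFinite.isCoh_of_iso (Ega2.Tens.swap _ _) (isCoh_tensorMod Y (isCoh_unit k Y) hL')
  have hsupp : topologicalKrullDim (CohB1.support (CohB1.tensorMod (ClSub.idealMod J) L')) ≤ 0 := by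
    refine le_trans ?_ hd.le
    exact Topology.IsInducing.topologicalKrullDim_le
      (Topology.IsEmbedding.inclusion (Fga.TwistCoh.support_tensor_subset hL')).isInducing
  have hgg := S1527.result k Y _ hM1 hsupp
  let j' : CohB1.tensorMod L' (ClSub.idealMod J) ⟶ CohB1.tensorMod L' (Coh.structureModule Y) :=
    ((VarietyB.RestrSeq.idealSeq J).map (DCoh.tensorBi.obj L')).f
  have hmono : Mono j' := hS.mono_f
  have h1 : Module.finrank k (Coh.HH Y (CohB1.tensorMod L' (ClSub.idealMod J)) 0) ≤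
      Module.finrank k (Coh.HH Y (CohB1.tensorMod L' (Coh.structureModule Y)) 0) :=
    K708.Coho.finrank_H0_le_of_mono k hM2 j'
  have h2 : Module.finrank k (Coh.HH Y (CohB1.tensorMod L' (Coh.structureModule Y)) 0) = 0 := by
    rw [CurvesC.DegIso.finrank_congr k (Ega2.Tens.runit L') 0]
    exact Module.finrank_zero_of_subsingleton
  have h3 : Module.finrank k (Coh.HH Y (CohB1.tensorMod (ClSub.idealMod J) L') 0) = 0 := by
    rw [← CurvesC.DegIso.finrank_congr k (Ega2.Tens.swap L' (ClSub.idealMod J)) 0]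
    omega
  have h4 : Subsingleton (Coh.HH Y (CohB1.tensorMod (ClSub.idealMod J) L') 0) := by
    have := K464.Cohom.finite_HH k hM1 0
    rw [Module.finrank_eq_zero_iff] at h3
    refine ⟨fun a b => ?_⟩
    obtain ⟨c, hc, h5⟩ := h3 (a - b)
    exact sub_eq_zero.mp ((smul_eq_zero_iff_right hc).mp h5)
  have hzz : IsZero (CohB1.tensorMod (ClSub.idealMod J) L') := Fga.PosZero.isZero_of_globallyGenerated _ hgg fun s => by
    obtain ⟨x, rfl⟩ := (CurvesB.HZero.equivAdd (CohB1.tensorMod (ClSub.idealMod J) L')).surjective s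
    rw [Subsingleton.elim x 0, map_zero]
  exact hz (Ega3B.SerreTwist.isZero_of_isZero_tensor hL' hzz)

end ideal

section final

variable {k : Type u} [Field k]

/-- `H⁰(Y, O_Y(-1)) = 0` for a complete intersection of dimension at least one. -/
theorem subsingleton_neg {N r : ℕ} (hr : r + 1 ≤ N) (a : Fin r → ℕ) (G : ∀ j : Fin r, Form N k (a j))
    (hG : CIReg.IsReg G) : Subsingleton (Coh.HH (ciIdeal G).subscheme
      ((Scheme.Modules.pullback (ciIdeal G).subschemeι).obj (Twist.twistProjSpace N k (-1))) 0) := by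
  have h1 := (CIGood.good_ci r (by omega) a G hG).surj (by omega) (-1)
  have h2 : Subsingleton (Coh.HH (CohB1.ProjSpace N k) (Twist.twistProjSpace N k (-1)) 0) :=
    S0844.result k N (-1) 0 (by omega) (by omega)
  refine ⟨fun a b => ?_⟩
  let M := (Scheme.Modules.pullback (ciIdeal G).subschemeι).obj (Twist.twistProjSpace N k (-1))
  apply (CurvesB.HZero.equivAdd M).injective
  let a1 : Γ(M, ⊤) := CurvesB.HZero.equivAdd M a
  let b1 : Γ(M, ⊤) := CurvesB.HZero.equivAdd M b
  change a1 = b1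
  obtain ⟨a', ha⟩ := h1 a1
  obtain ⟨b', hb⟩ := h1 b1
  have h3 : a' = b' := (CurvesB.HZero.equivAdd (Twist.twistProjSpace N k (-1))).symm.injective (Subsingleton.elim _ _)
  rw [← ha, ← hb, h3]

/-- A closed subscheme of a complete intersection of two quadrics in `P⁴` with almost the same Hilbert polynomial. -/
theorem ker_eq {X : Scheme.{u}} (i : X ⟶ CohB1.ProjSpace 4 k) [IsClosedImmersion i] (G : Fin 2 → Form 4 k 2)
    (hG : CIReg.IsReg (a := fun _ => 2) G) (hle : ciIdeal (a := fun _ : Fin 2 => 2) G ≤ i.ker) (c : ℤ)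
    (hE : ∀ m : ℕ, E i m = 2 * (m : ℤ) ^ 2 + 2 * m + c) : i.ker = ciIdeal (a := fun _ : Fin 2 => 2) G := by
  let y := (ciIdeal (a := fun _ : Fin 2 => 2) G).subschemeι
  letI := ovr y
  have hproj : IsProper (CohB1.ProjSpace.toSpec 4 k) := inferInstance
  have hy : IsProper (y ≫ CohB1.ProjSpace.toSpec 4 k) := inferInstance
  have hy' : IsProper ((ciIdeal (a := fun _ : Fin 2 => 2) G).subscheme ↘ (Spec (CommRingCat.of k))) := hy
  have hker : y.ker = ciIdeal (a := fun _ : Fin 2 => 2) G := Scheme.IdealSheafData.ker_subschemeι _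
  let j : X ⟶ (ciIdeal (a := fun _ : Fin 2 => 2) G).subscheme := IsClosedImmersion.lift y i (hker.trans_le hle)
  have hj : j ≫ y = i := IsClosedImmersion.lift_fac _ _ _
  have hjc : IsClosedImmersion j := by
    have : IsClosedImmersion (j ≫ y) := by rw [hj]; infer_instance
    exact IsClosedImmersion.of_comp j y
  have hL : CohB1.IsAmple ((Scheme.Modules.pullback y).obj (Twist.twistProjSpace 4 k 1)) := K802.TwistP.isAmple_one y
  have hJ : j.ker = ⊥ := by
    refine eq_bot_of_const k hL (isInv y (-1)) j.ker (1 - c) (fun m => ?_) (subsingleton_neg (by norm_num) _ G hG)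
    have e : Nonempty (CohB1.tensorPow ((Scheme.Modules.pullback y).obj (Twist.twistProjSpace 4 k 1)) m ≅
        (Scheme.Modules.pullback y).obj (Twist.twistProjSpace 4 k m)) := by
      rw [← mk_eq_iff (Fdesc.LocGen.isInvertible_tensorPow (isInvertible_pullback_twist y 1) m)
        (isInvertible_pullback_twist y m), mk_tensorPow (isInvertible_pullback_twist y 1) m, mk_pullback_twist,
        mk_pullback_twist, zpow_one, zpow_natCast]
    obtain ⟨e⟩ := e
    have h1 := E_ideal y hy j.ker m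
    rw [← E_image, hj, hE m, E_quadrics G hG m] at h1
    refine (CurvesC.DegIso.euler_congr k (Ega2.Tens.mapTIso (Iso.refl _) e)).trans (h1.trans ?_)
    ring
  have hiso : IsIso j := IsClosedImmersion.isIso_iff_ker_eq_bot.mpr hJ
  have e1 : (j ≫ y).ker = y.ker := le_antisymm (by
    have : y = inv j ≫ (j ≫ y) := by simp
    conv_rhs => rw [this]
    exact Scheme.Hom.le_ker_comp _ _) (Scheme.Hom.le_ker_comp _ _)
  rw [hj] at e1
  exact e1.trans hker

end final

/-- A degree four del Pezzo surface in `P⁴` is a complete intersection of two quadrics. -/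
theorem main (Hs : Groth.Agent.Sga7.H5.HypConn.Stmt.{u}) (k : Type u) [Field k] [IsAlgClosed k] (X : Scheme.{u})
    [X.Over (Spec (CommRingCat.of k))] [IsIntegral X] [IsProper (X ↘ (Spec (CommRingCat.of k)))]
    [Smooth (X ↘ (Spec (CommRingCat.of k)))]
    (hdim : topologicalKrullDim X = 2)
    (W : X.Modules) (hW : ExtPow.IsExtPow 2 (Omega.sheaf (X ↘ (Spec (CommRingCat.of k)))) W)
    (D : X.Modules) (hD : ClSub.IsInverseOf D W)
    (hd : FGA.intNum k X 2 ![W, W] (Coh.structureModule X) = 4)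
    (ι : X ⟶ CohB1.ProjSpace 4 k) [IsClosedImmersion ι] (hι : ι ≫ CohB1.ProjSpace.toSpec 4 k = X ↘ (Spec (CommRingCat.of k)))
    (hpol : Nonempty ((Scheme.Modules.pullback ι).obj (Twist.twistProjSpace 4 k 1) ≅ D))
    (hnd : ∀ G : Form 4 k 1, G ≠ 0 → (hypIdeal G).comap ι ≠ ⊥) :
    ∃ G : Fin 2 → Form 4 k 2, LinearIndependent k G ∧ ι.ker = ciIdeal (a := fun _ : Fin 2 => 2) G := by
  have hWi := isInvertible_W k hdim hW
  obtain ⟨e⟩ := hpol
  have hDi : PicF.IsInvertible D := isInvertible_of_iso e (isInvertible_pullback_twist ι 1)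
  have hDh : mk D hDi = hyp ι := by
    rw [← zpow_one (hyp ι), ← mk_pullback_twist, mk_eq_iff]
    exact ⟨e.symm⟩
  have hw : mk W hWi = (hyp ι)⁻¹ := by
    rw [← hDh, mk_eq_inv_of_isInverseOf hD hDi hWi, inv_inv]
  have h4 : dot k X (hyp ι) (hyp ι) = 4 := by
    have h := intNum_eq_dot k X hdim.le hWi hWi
    rw [hd, hw, dot_inv_inv k X hdim.le] at h
    exact h.symm
  have hb := h0_two_le k X hdim ι hW hWi hw h4 Hs hι hnd
  obtain ⟨G, hli, hG⟩ := exists_quadrics ι hι hb
  have hreg := K33.Quadrics.isReg_of_nondeg ι hnd G hli hG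
  refine ⟨G, hli, ker_eq ι G hreg (iSup_le fun j => K330.FormSec.hypIdeal_le_ker ι (G j) (hG j)) (chi k X 1) fun m => ?_⟩
  rw [← K33.CICanon.chi_hyp k X ι hι, chi_pow k X hdim ι hW hWi hw h4]

end K33.DP4
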