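import Groth.Agent.Surf.K33.CIEuler
import Groth.Agent.Surf.K463.RRd
import Groth.Agent.Lefpen.H21.PicTwist
import Groth.Agent.AdjLin.K802.TwistP

/-!
# Canonical modules from Euler characteristics

`canon_eq`: a smooth projective surface `i : X ⟶ P^N` over an algebraically closed field with
`χ(O_X(-1)) = χ(O_X) > 0` has canonical class `O_X(-1)`.
-/

set_option autoImplicit false
universe u

open CategoryTheory CategoryTheory.Limits AlgebraicGeometry Opposite TopologicalSpace

namespace K33.CICanon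

open Groth.Agent Groth.Agent.Grpsch.PicGrp Groth.Agent.Lefpen.H21.PicTwist K463.HC K463.RRd K464.Base K33.CIEuler

variable (k : Type u) [Field k] [IsAlgClosed k] (X : Scheme.{u})
    [X.Over (Spec (CommRingCat.of k))] {N : ℕ}

theorem chi_hyp (i : X ⟶ CohB1.ProjSpace N k) (hi : i ≫ CohB1.ProjSpace.toSpec N k = X ↘ (Spec (CommRingCat.of k)))
    (t : ℤ) : chi k X (hyp i ^ t) = E i t := by
  rw [← mk_pullback_twist, chi_mk, E_eq i hi]

variable [IsIntegral X] [IsProper (X ↘ (Spec (CommRingCat.of k)))] [Smooth (X ↘ (Spec (CommRingCat.of k)))]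

theorem canon_eq (hdim : topologicalKrullDim X = 2) (i : X ⟶ CohB1.ProjSpace N k) [IsClosedImmersion i]
    (hi : i ≫ CohB1.ProjSpace.toSpec N k = X ↘ (Spec (CommRingCat.of k)))
    {W : X.Modules} (hW : ExtPow.IsExtPow 2 (Omega.sheaf (X ↘ (Spec (CommRingCat.of k)))) W)
    (hWi : PicF.IsInvertible W) (h1 : E i (-1) = E i 0) (h0 : 0 < E i (-1))
    (h2 : E i 0 < E i 1) : mk W hWi = hyp i ^ (-1 : ℤ) := by
  have hL := isInvertible_pullback_twist i 1
  have hamp : CohB1.IsAmple ((Scheme.Modules.pullback i).obj (Twist.twistProjSpace N k 1)) :=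
    K802.TwistP.isAmple_one i
  have hh : mk _ hL = hyp i := by rw [mk_pullback_twist, zpow_one]
  have e0 : chi k X 1 = E i 0 := by rw [← chi_hyp k X i hi, zpow_zero]
  have em : chi k X (hyp i)⁻¹ = E i (-1) := by rw [← chi_hyp k X i hi, zpow_neg_one]
  have r1 := rr k hdim hW hWi (hyp i)⁻¹
  rw [dot_inv_inv k X hdim.le, dot_inv_left k X hdim.le, em, e0, h1] at r1
  -- `(w h) . h = 0`
  have d0 : dot k X (mk W hWi * hyp i) (hyp i) = 0 := by
    rw [dot_mul_left k X hdim.le, dot_comm k X (mk W hWi)]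
    linarith
  have e1 : chi k X (hyp i) = E i 1 := by rw [← chi_hyp k X i hi, zpow_one]
  have r2 := rr k hdim hW hWi (hyp i)
  rw [e1, e0] at r2
  have dhh : 0 < dot k X (hyp i) (hyp i) := by linarith
  have v0 : hc k X 0 (hyp i)⁻¹ = 0 := by
    refine hc_zero_eq_zero k hdim hL hamp ?_
    rw [hh, dot_inv_left k X hdim.le]
    linarith
  have v1 := chi_le k X hdim.le (hyp i)⁻¹
  have v2 := hc_dual k hdim hW hWi (hyp i)⁻¹ 0 2 rfl
  have v3 : 0 < hc k X 0 (mk W hWi * (hyp i)) := by
    rw [inv_inv] at v2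
    rw [← v2]
    rw [em, v0] at v1
    omega
  obtain ⟨D, hD, hDeq⟩ := exists_div k v3
  have hD1 : D = ⊤ := by
    by_contra hne
    have h10 := dot_ic_neg_of_ample_eff k hdim hD hne hL hamp
    have h11 : ic D hD = (mk W hWi * hyp i)⁻¹ := by rw [hDeq, inv_inv]
    rw [h11, hh, dot_inv_left k X hdim.le, d0] at h10
    omega
  subst hD1
  rw [show ic ⊤ hD = 1 from ic_top, inv_one] at hDeq
  rw [zpow_neg_one]
  exact eq_inv_of_mul_eq_one_left hDeq

/-- The canonical class of a smooth complete intersection of two quadrics in `P⁴`. -/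
theorem canon_quadrics (hdim : topologicalKrullDim X = 2) (i : X ⟶ CohB1.ProjSpace 4 k) [IsClosedImmersion i]
    (hi : i ≫ CohB1.ProjSpace.toSpec 4 k = X ↘ (Spec (CommRingCat.of k)))
    (G : Fin 2 → LefPen.Form 4 k 2) (hker : i.ker = LefPen.ciIdeal (a := fun _ : Fin 2 => 2) G)
    (hG : Groth.Agent.Coherent.K51.CIReg.IsReg (a := fun _ => 2) G)
    {W : X.Modules} (hW : ExtPow.IsExtPow 2 (Omega.sheaf (X ↘ (Spec (CommRingCat.of k)))) W)
    (hWi : PicF.IsInvertible W) : mk W hWi = hyp i ^ (-1 : ℤ) := by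
  have a1 : E i 1 = 5 := by
    rw [E_ker i hker]
    have := E_quadrics G hG 1
    norm_num at this
    exact this
  have a0 : E i 0 = 1 := by
    rw [E_ker i hker]
    have := E_quadrics G hG 0
    norm_num at this
    exact this
  have am : E i (-1) = 1 := by
    rw [E_ker i hker]
    exact E_quadrics_neg G hG
  exact canon_eq k X hdim i hi hW hWi (by rw [am, a0]) (by rw [am]; norm_num) (by rw [a0, a1]; norm_num)

end K33.CICanon
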